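import Groth.Agent.EGA43.K115.GoodStage

/-!
# Injectivity and flatness of the cokernel at a point of a limit come from a stage

* `exists_chart`: restriction of `f : X ⟶ Y`, a base change of `f₀ : X₀ ⟶ Y₀`, to opens `U ⊆ X₀`, `V ⊆ Y₀`;
* `exists_stage`: the general case of `GoodStage.exists_stage`.
-/

set_option autoImplicit false
set_option linter.style.haveILetI false
universe u

open CategoryTheory CategoryTheory.Limits AlgebraicGeometry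

namespace K115.GoodLimit

open Groth.Agent Groth.Agent.CycB.StalkExact Groth.Agent.Ega43.LimBC K115.GoodPt K115.GoodStage

/-- Charts. -/
theorem exists_chart {S₀ T X₀ Y₀ X Y E P : Scheme.{u}} {f₀ : X₀ ⟶ Y₀} {g₀ : Y₀ ⟶ S₀} {t : T ⟶ S₀}
    {qY : Y ⟶ Y₀} {g : Y ⟶ T} (hY : IsPullback qY g g₀ t) {f : X ⟶ Y} {qX : X ⟶ X₀} (hX : IsPullback qX f f₀ qY)
    {V : Y₀.Opens} {U : X₀.Opens} (e : U ≤ f₀ ⁻¹ᵁ V) {a : E ⟶ V} {b : E ⟶ T} (hE : IsPullback a b (V.ι ≫ g₀) t)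
    {p : P ⟶ U} {q : P ⟶ E} (hP : IsPullback p q (f₀.resLE V U e) a) {F₀ G₀ : X₀.Modules} (h₀ : F₀ ⟶ G₀) :
    ∃ (m : P ⟶ X) (n : E ⟶ Y), IsPullback m p qX U.ι ∧ n ≫ qY = a ≫ V.ι ∧ n ≫ g = b ∧ m ≫ f = q ≫ n ∧
      ∀ z, Good q ((Scheme.Modules.pullback p).map ((Scheme.Modules.pullback U.ι).map h₀)) z ↔
        Good f ((Scheme.Modules.pullback qX).map h₀) (m z) := by
  let n : E ⟶ Y := hY.lift (a ≫ V.ι) b (by rw [Category.assoc, hE.w])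
  have hn1 : n ≫ qY = a ≫ V.ι := hY.lift_fst _ _ _
  have hn2 : n ≫ g = b := hY.lift_snd _ _ _
  have Hn : IsPullback n a qY V.ι := by
    refine IsPullback.of_right (h₁₂ := g) (h₂₂ := g₀) (v₁₃ := t) ?_ hn1 hY.flip
    rw [hn2]
    exact hE.flip
  have hno : IsOpenImmersion n := MorphismProperty.of_isPullback Hn.flip inferInstance
  have H1 : IsPullback p (q ≫ n) (U.ι ≫ f₀) qY := by
    have h1 := hP.paste_vert Hn.flip
    rwa [Scheme.Hom.resLE_comp_ι] at h1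
  let m : P ⟶ X := hX.lift (p ≫ U.ι) (q ≫ n) (by rw [Category.assoc, H1.w])
  have hm1 : m ≫ qX = p ≫ U.ι := hX.lift_fst _ _ _
  have hm2 : m ≫ f = q ≫ n := hX.lift_snd _ _ _
  have Hm : IsPullback m p qX U.ι := by
    refine IsPullback.of_right (h₁₂ := f) (h₂₂ := f₀) (v₁₃ := qY) ?_ hm1 hX.flip
    rw [hm2]
    exact H1.flip
  have hmo : IsOpenImmersion m := MorphismProperty.of_isPullback Hm.flip inferInstance
  refine ⟨m, n, Hm, hn1, hn2, hm2, fun z => ?_⟩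
  rw [good_comp_map_iff hm1.symm, ← good_pullback_iff m, good_comp_map_iff rfl, hm2, good_comp_iff]

theorem compat {S T X₀ Y₀ U V X Y Xi Yi E E' P P' : Scheme.{u}} {f₀ : X₀ ⟶ Y₀} {g₀ : Y₀ ⟶ S} {t : T ⟶ S}
    {pY : Yi ⟶ Y₀} {gi : Yi ⟶ T} (hYi : IsPullback pY gi g₀ t) {fi : Xi ⟶ Yi} {pX : Xi ⟶ X₀}
    (hXi : IsPullback pX fi f₀ pY) {ιU : U ⟶ X₀} {ιV : V ⟶ Y₀} {vX : X ⟶ Xi} {vY : Y ⟶ Yi} {f : X ⟶ Y}
    (e4 : vX ≫ fi = f ≫ vY) {m : P ⟶ X} {n : E ⟶ Y} {m' : P' ⟶ Xi} {n' : E' ⟶ Yi} {w : P ⟶ P'} {v : E ⟶ E'}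
    {q : P ⟶ E} {q' : P' ⟶ E'} (hw : w ≫ q' = q ≫ v) (hmn : m ≫ f = q ≫ n) (hmn' : m' ≫ fi = q' ≫ n')
    {p : P ⟶ U} {p' : P' ⟶ U} (hwp : w ≫ p' = p) (hm : m ≫ vX ≫ pX = p ≫ ιU) (hm' : m' ≫ pX = p' ≫ ιU)
    {a : E ⟶ V} {a' : E' ⟶ V} (hva : v ≫ a' = a) (hn : n ≫ vY ≫ pY = a ≫ ιV) (hn' : n' ≫ pY = a' ≫ ιV)
    {b' : E' ⟶ T} (hnb : n ≫ vY ≫ gi = v ≫ b') (hnb' : n' ≫ gi = b') : w ≫ m' = m ≫ vX := by
  have hcn : v ≫ n' = n ≫ vY := by
    apply hYi.hom_ext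
    · rw [Category.assoc, hn', Category.assoc, hn, ← hva, Category.assoc]
    · rw [Category.assoc, hnb', Category.assoc, hnb]
  apply hXi.hom_ext
  · rw [Category.assoc, hm', Category.assoc, hm, ← hwp, Category.assoc]
  · rw [Category.assoc, hmn', reassoc_of% hw, hcn, Category.assoc, e4, reassoc_of% hmn]

variable {I : Type u} [SmallCategory I] [IsCofiltered I]
    (D : I ⥤ Scheme.{u}) (c : Limits.Cone D) (hc : Limits.IsLimit c)
    [∀ (i j : I) (φ : i ⟶ j), IsAffineHom (D.map φ)] (i₀ : I)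
    {X₀ Y₀ : Scheme.{u}} (f₀ : X₀ ⟶ Y₀) (g₀ : Y₀ ⟶ D.obj i₀) [LocallyOfFinitePresentation f₀]
    {F₀ G₀ : X₀.Modules} (hF : Coh.IsQCoh F₀) (hG : Coh.IsQCoh G₀) (hF' : CohB1.IsFP F₀) (hG' : CohB1.IsFP G₀)
    (h₀ : F₀ ⟶ G₀)
    {X Y : Scheme.{u}} (f : X ⟶ Y) (g : Y ⟶ c.pt) (qY : Y ⟶ Y₀) (qX : X ⟶ X₀)
    (hY : IsPullback qY g g₀ (c.π.app i₀)) (hX : IsPullback qX f f₀ qY)

include hc hF hG hF' hG' hX hY in
/-- **A good point of the limit is good at a stage.** -/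
theorem exists_stage (x : X) (h : Good f ((Scheme.Modules.pullback qX).map h₀) x) :
    ∃ (i : I) (φ : i ⟶ i₀), ∀ (Xi Yi : Scheme.{u}) (fi : Xi ⟶ Yi) (gi : Yi ⟶ D.obj i)
        (pY : Yi ⟶ Y₀) (pX : Xi ⟶ X₀) (vY : Y ⟶ Yi) (vX : X ⟶ Xi),
        IsPullback pY gi g₀ (D.map φ) → IsPullback pX fi f₀ pY →
          vY ≫ pY = qY → vY ≫ gi = g ≫ c.π.app i → vX ≫ pX = qX → vX ≫ fi = f ≫ vY →
          Good fi ((Scheme.Modules.pullback pX).map h₀) (vX x) := by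
  obtain ⟨V, hV, hxV, -⟩ := exists_isAffineOpen_mem_and_subset (x := f₀ (qX x)) (U := ⊤) trivial
  obtain ⟨U, hU, hxU, e⟩ := exists_isAffineOpen_mem_and_subset (x := qX x) (U := f₀ ⁻¹ᵁ V) hxV
  have hU' : IsAffine (U : Scheme.{u}) := hU
  have hV' : IsAffine (V : Scheme.{u}) := hV
  let E := bcDiagram D i₀ (V.ι ≫ g₀)
  let cE := bcCone D c i₀ (V.ι ≫ g₀)
  have hcE : IsLimit cE := isLimitBcCone D c i₀ (V.ι ≫ g₀) hc
  have hE : ∀ j, IsAffine (E.obj j) := fun j => by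
    change IsAffine (pullback (V.ι ≫ g₀) (D.map j.hom))
    have : IsAffineHom (pullback.fst (V.ι ≫ g₀) (D.map j.hom)) := MorphismProperty.pullback_fst _ _ inferInstance
    exact isAffine_of_isAffineHom (pullback.fst (V.ι ≫ g₀) (D.map j.hom))
  let i : Over i₀ := Over.mk (𝟙 i₀)
  let r : E.obj i ⟶ (V : Scheme.{u}) := pullback.fst (V.ι ≫ g₀) (D.map i.hom)
  have hr : IsIso r := by
    have : IsIso (D.map i.hom) := by
      change IsIso (D.map (𝟙 i₀))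
      infer_instance
    exact inferInstanceAs (IsIso (pullback.fst (V.ι ≫ g₀) (D.map i.hom)))
  let f₁ : (U : Scheme.{u}) ⟶ E.obj i := f₀.resLE V U e ≫ inv r
  have hf₁ : f₁ ≫ r = f₀.resLE V U e := by simp [f₁]
  have hlfp : LocallyOfFinitePresentation f₁ := inferInstance
  -- base changes of `f₁` are base changes of `U ⟶ V`
  have key : ∀ {T P : Scheme.{u}} {s : T ⟶ E.obj i} {p : P ⟶ U} {q : P ⟶ T} (_ : IsPullback p q f₁ s),
      IsPullback p q (f₀.resLE V U e) (s ≫ r) := by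
    intro T P s p q H
    have h1 : IsPullback (𝟙 (U : Scheme.{u})) (f₁) (f₀.resLE V U e) r :=
      IsPullback.of_horiz_isIso ⟨by rw [hf₁, Category.id_comp]⟩
    have h2 := H.paste_horiz h1
    rwa [Category.comp_id] at h2
  have hE1 : IsPullback (cE.π.app i ≫ r) (pullback.snd (V.ι ≫ g₀) (c.π.app i₀)) (V.ι ≫ g₀) (c.π.app i₀) := by
    have h1 : cE.π.app i ≫ r = pullback.fst (V.ι ≫ g₀) (c.π.app i₀) := bcCone_π_fst D c i₀ (V.ι ≫ g₀) i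
    rw [h1]
    exact IsPullback.of_hasPullback _ _
  obtain ⟨m, n, Hm, hn1, hn2, hmn, hm⟩ := exists_chart hY hX e hE1
    (key (IsPullback.of_hasPullback f₁ (cE.π.app i))) h₀
  obtain ⟨x', hx', -⟩ := Scheme.exists_preimage_of_isPullback Hm x ⟨_, hxU⟩ rfl
  rw [← hx', ← hm x'] at h
  obtain ⟨j, hj⟩ := GoodStage.exists_stage hcE f₁ (VarietyB.PullSec.isQCoh_pullback U.ι _ hF)
    (VarietyB.PullSec.isQCoh_pullback U.ι _ hG) (FormalA.PullbackQC.isFP_pullback U.ι _ hF')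
    (FormalA.PullbackQC.isFP_pullback U.ι _ hG') _ x' h
  refine ⟨j.left.left, j.left.hom, fun Xi Yi fi gi pY pX vY vX hYi hXi e1 e2 e3 e4 => ?_⟩
  have hE2 : IsPullback (E.map j.hom ≫ r) (pullback.snd (V.ι ≫ g₀) (D.map j.left.hom)) (V.ι ≫ g₀)
      (D.map j.left.hom) := by
    have h1 : E.map j.hom ≫ r = pullback.fst (V.ι ≫ g₀) (D.map j.left.hom) := bcDiagram_map_fst D i₀ (V.ι ≫ g₀) j.hom
    rw [h1]
    exact IsPullback.of_hasPullback _ _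
  obtain ⟨m', n', Hm', hn1', hn2', hmn', hm'⟩ := exists_chart hYi hXi e hE2
    (key (IsPullback.of_hasPullback f₁ (E.map j.hom))) h₀
  -- compatibility
  let w : pullback f₁ (cE.π.app i) ⟶ pullback f₁ (E.map j.hom) := (bcCone E cE i f₁).π.app j
  have hcm : w ≫ m' = m ≫ vX := by
    refine compat (a := cE.π.app i ≫ r) (v := cE.π.app j.left) (n := n) (ιU := U.ι) (ιV := V.ι) hYi hXi e4
      (isPullback_π E cE i f₁ j).w hmn hmn' (bcCone_π_fst E cE i f₁ j) ?_ Hm'.w ?_ ?_ hn1' ?_ hn2'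
    · rw [e3, Hm.w]
    · exact (Category.assoc _ _ _).symm.trans (congrArg (· ≫ r) (cE.w j.hom))
    · rw [e1, hn1]
    · rw [e2, reassoc_of% hn2]
      exact (isPullback_π D c i₀ (V.ι ≫ g₀) j.left).w.symm
  have h3 := (hm' (w x')).mp hj
  have h4 : m' (w x') = vX x := by
    rw [← hx']
    change (w ≫ m') x' = (m ≫ vX) x'
    rw [hcm]
  rwa [h4] at h3

end K115.GoodLimit
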