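import Groth.Agent.Pic13.H504.KernelFamily
import Groth.Agent.EGA43.K120.StalkInj
import Groth.Agent.FlatMod.K582.PullFlat
import Groth.Agent.Models2.FlatIso
import Groth.Agent.Sga67.FlatPre
import Groth.Agent.Ega3B.FlatRestrict

/-!
# Homomorphisms injective at a point with cokernel flat over the base

`Good f h x`: the stalk of `h : F ⟶ G` at `x` is injective and `coker h` is flat over the base at `x`.

* `Good.congr`: isomorphic maps;
* `Good.pullback`: base change;
* `good_comp_iff`: open immersions on the target; `good_pullback_iff`: open immersions on the source.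
* `injective_of_kernel`: injectivity of `p^* v` when the kernel of `v` dies.
-/

set_option autoImplicit false
set_option linter.style.haveILetI false
universe u

open CategoryTheory CategoryTheory.Limits AlgebraicGeometry

namespace K115.GoodPt

open Groth.Agent Groth.Agent.CycB.StalkExact Groth.Agent.Fdesc.PullbackStalk Groth.Agent.PerfC.RelFlat TensorProduct

variable {P X Y' Y : Scheme.{u}}

/-- injective on the stalk, with flat cokernel -/
def Good (f : X ⟶ Y) {F G : X.Modules} (h : F ⟶ G) (x : X) : Prop :=
  Function.Injective (stalkLin h x) ∧ FlatMod.IsFlatOverAt f (cokernel h) x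

theorem Good.congr {f : X ⟶ Y} {F G F' G' : X.Modules} {h : F ⟶ G} {h' : F' ⟶ G'} (eF : F ≅ F') (eG : G ≅ G')
    (w : h ≫ eG.hom = eF.hom ≫ h') {x : X} (H : Good f h x) : Good f h' x := by
  constructor
  · have e1 : stalkLin h' x ∘ₗ stalkLin eF.hom x = stalkLin eG.hom x ∘ₗ stalkLin h x := by
      rw [← stalkLin_comp, ← stalkLin_comp, w]
    have h1 : Function.Injective (stalkLin eG.hom x ∘ₗ stalkLin h x) := by
      rw [LinearMap.coe_comp]
      exact (stalkLinEquiv eG x).injective.comp H.1
    rw [← e1, LinearMap.coe_comp] at h1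
    intro a b hab
    obtain ⟨a, rfl⟩ := (stalkLinEquiv eF x).surjective a
    obtain ⟨b, rfl⟩ := (stalkLinEquiv eF x).surjective b
    rw [h1 hab]
  · exact Models2.FlatIso.isFlatOverAt_of_iso f (cokernel.mapIso h h' eF eG w) x H.2

theorem good_congr_map {f : X ⟶ Y} {F G : X.Modules} {h h' : F ⟶ G} (e : h = h') {x : X} (H : Good f h x) :
    Good f h' x := e ▸ H

variable {p : P ⟶ X} {q : P ⟶ Y'} {f : X ⟶ Y} {g : Y' ⟶ Y}

/-- `p^*` commutes with cokernels. -/
noncomputable def cokerPull (p : P ⟶ X) {F G : X.Modules} (h : F ⟶ G) :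
    (Scheme.Modules.pullback p).obj (cokernel h) ≅ cokernel ((Scheme.Modules.pullback p).map h) :=
  PreservesCokernel.iso (Scheme.Modules.pullback p) h

/-- Injectivity of the pulled back map on a stalk, when the kernel of `v` dies and the cokernel is flat. -/
theorem injective_of_kernel (H : IsPullback p q f g) {F G : X.Modules} (v : F ⟶ G) (z : P)
    (hfl : FlatMod.IsFlatOverAt f (cokernel v) (p z))
    (hker : ∀ t, stalkLin v (p z) t = 0 → canAdd p F z t = 0) :
    Function.Injective (stalkLin ((Scheme.Modules.pullback p).map v) z) := by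
  have h2 : Function.Exact (stalkLin v (p.base z)) (stalkLin (cokernel.π v) (p.base z)) :=
    stalkLin_exact (ShortComplex.mk v (cokernel.π v) (cokernel.condition v)) (ShortComplex.exact_cokernel v) _
  have h3 : Function.Surjective (stalkLin (cokernel.π v) (p.base z)) := stalkLin_surjective _ _
  letI := stalkAlg f (p.base z)
  letI : Algebra (Y.presheaf.stalk (f.base (p.base z))) (Y'.presheaf.stalk (q.base z)) :=
    (Fdesc.FlatBC.crossMap H.w z).hom.toAlgebra
  letI := stalkAlg p z
  letI := stalkAlg q z
  letI : Algebra (Y.presheaf.stalk (f.base (p.base z))) (P.presheaf.stalk z) :=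
    (f.stalkMap (p.base z) ≫ p.stalkMap z).hom.toAlgebra
  haveI : IsScalarTower (Y.presheaf.stalk (f.base (p.base z))) (X.presheaf.stalk (p.base z))
    (P.presheaf.stalk z) := IsScalarTower.of_algebraMap_eq fun _ => rfl
  haveI : IsScalarTower (Y.presheaf.stalk (f.base (p.base z))) (Y'.presheaf.stalk (q.base z))
    (P.presheaf.stalk z) := IsScalarTower.of_algebraMap_eq fun r =>
      (ConcreteCategory.congr_hom (Fdesc.FlatBC.crossMap_comp H.w z) r).symm
  letI := FlatMod.moduleStalkOver f F (p.base z)
  haveI := isScalarTower f F (p.base z)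
  letI := FlatMod.moduleStalkOver f G (p.base z)
  haveI := isScalarTower f G (p.base z)
  letI := FlatMod.moduleStalkOver f (cokernel v) (p.base z)
  haveI := isScalarTower f (cokernel v) (p.base z)
  haveI : Module.Flat (Y.presheaf.stalk (f.base (p.base z))) ((cokernel v).presheaf.stalk (p.base z)) := hfl
  -- the range of `v`
  let R := LinearMap.range (stalkLin v (p.base z))
  have key := injective_cube (Fdesc.FlatBC.flat_productMap_stalk H z) R.subtype (stalkLin (cokernel.π v) (p.base z))
    R.injective_subtype (by
      intro y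
      rw [h2 y]
      simp [R]) h3
  letI := FlatMod.moduleStalkOver p ((Scheme.Modules.pullback p).obj F) z
  haveI := isScalarTower p ((Scheme.Modules.pullback p).obj F) z
  letI := FlatMod.moduleStalkOver p ((Scheme.Modules.pullback p).obj G) z
  haveI := isScalarTower p ((Scheme.Modules.pullback p).obj G) z
  have hc : ∀ x, stalkLin ((Scheme.Modules.pullback p).map v) z (stalkPullbackEquiv p F z x) =
      stalkPullbackEquiv p G z ((stalkLin v (p.base z)).baseChange (P.presheaf.stalk z) x) := by
    intro x
    induction x with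
    | zero => simp
    | add a b ha hb => simp only [map_add, ha, hb]
    | tmul t m =>
      rw [stalkPullbackEquiv_tmul, LinearMap.baseChange_tmul, stalkPullbackEquiv_tmul, map_smul,
        PerfB.FlatPull.stalkLin_pullback_canAdd]
  have hdec : (stalkLin v (p.base z)).baseChange (P.presheaf.stalk z) =
      R.subtype.baseChange (P.presheaf.stalk z) ∘ₗ
        (stalkLin v (p.base z)).rangeRestrict.baseChange (P.presheaf.stalk z) := by
    rw [← LinearMap.baseChange_comp]
    rfl
  rw [injective_iff_map_eq_zero]
  intro x hx
  obtain ⟨x, rfl⟩ := (stalkPullbackEquiv p F z).surjective x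
  rw [hc, LinearEquiv.map_eq_zero_iff, hdec, LinearMap.comp_apply] at hx
  have hx2 : (stalkLin v (p.base z)).rangeRestrict.baseChange (P.presheaf.stalk z) x = 0 :=
    key (hx.trans (map_zero _).symm)
  -- `x` comes from the kernel
  have hex : Function.Exact ((LinearMap.ker (stalkLin v (p.base z))).subtype.lTensor (P.presheaf.stalk z))
      ((stalkLin v (p.base z)).rangeRestrict.lTensor (P.presheaf.stalk z)) :=
    lTensor_exact _ (by
      intro y
      constructor
      · intro hy
        exact ⟨⟨y, congrArg Subtype.val hy⟩, rfl⟩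
      · rintro ⟨y, rfl⟩
        exact Subtype.ext y.2) (LinearMap.surjective_rangeRestrict _)
  obtain ⟨k, hk⟩ := (hex x).mp hx2
  rw [← hk]
  clear hk hx2 hx
  induction k with
  | zero => simp
  | add a b ha hb => rw [map_add, map_add, ha, hb, add_zero]
  | tmul t m =>
    rw [LinearMap.lTensor_tmul, stalkPullbackEquiv_tmul]
    have : canAdd p F z ((LinearMap.ker (stalkLin v (p.base z))).subtype m) = 0 := hker _ m.2
    rw [this, smul_zero]

/-- Base change. -/
theorem Good.pullback (H : IsPullback p q f g) {F G : X.Modules} {h : F ⟶ G} {z : P} (hz : Good f h (p z)) :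
    Good q ((Scheme.Modules.pullback p).map h) z := by
  constructor
  · refine injective_of_kernel H h z hz.2 fun t ht => ?_
    have : t = 0 := hz.1 (by rw [ht, map_zero])
    rw [this, map_zero]
  · exact Models2.FlatIso.isFlatOverAt_of_iso q (cokerPull p h) z (Fdesc.FlatBC.isFlatOverAt_pullback H _ z hz.2)

/-- Base change, iterated pullbacks. -/
theorem Good.pullback_comp {X₀ : Scheme.{u}} {r : X ⟶ X₀} {r' : P ⟶ X₀} (H : IsPullback p q f g) (e : p ≫ r = r')
    {F G : X₀.Modules} {h : F ⟶ G} {z : P} (hz : Good f ((Scheme.Modules.pullback r).map h) (p z)) :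
    Good q ((Scheme.Modules.pullback r').map h) z := by
  subst e
  refine Good.congr ((Scheme.Modules.pullbackComp p r).app F) ((Scheme.Modules.pullbackComp p r).app G) ?_
    (Good.pullback H hz)
  exact (Scheme.Modules.pullbackComp p r).hom.naturality h

/-- The source restricted along an open immersion. -/
theorem good_pullback_iff (j : P ⟶ X) [IsOpenImmersion j] {F G : X.Modules} (h : F ⟶ G) (z : P) :
    Good (j ≫ f) ((Scheme.Modules.pullback j).map h) z ↔ Good f h (j z) := by
  have hb : Function.Bijective (j.stalkMap z).hom :=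
    (ConcreteCategory.isIso_iff_bijective _).mp (inferInstanceAs (IsIso (j.stalkMap z)))
  have hfl : (j.stalkMap z).hom.Flat := RingHom.Flat.of_bijective hb
  have h2 : FlatMod.IsFlatOverAt (j ≫ f) (cokernel ((Scheme.Modules.pullback j).map h)) z ↔
      FlatMod.IsFlatOverAt f (cokernel h) (j z) := by
    rw [show FlatMod.IsFlatOverAt f (cokernel h) (j z) ↔ _ from
      K582.PullFlat.isFlatOverAt_iff_pullback j f (cokernel h) z hfl]
    exact ⟨Models2.FlatIso.isFlatOverAt_of_iso _ (cokerPull j h).symm z,
      Models2.FlatIso.isFlatOverAt_of_iso _ (cokerPull j h) z⟩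
  have h1 : Function.Injective (stalkLin ((Scheme.Modules.pullback j).map h) z) ↔
      Function.Injective (stalkLin h (j z)) := by
    have hF := Sga67.FlatPre.canAdd_bijective j F z
    have hG := Sga67.FlatPre.canAdd_bijective j G z
    have hc : ∀ t, stalkLin ((Scheme.Modules.pullback j).map h) z (canAdd j F z t) =
        canAdd j G z (stalkLin h (j z) t) := fun t => PerfB.FlatPull.stalkLin_pullback_canAdd j h z t
    constructor
    · intro H a b hab
      exact hF.1 (H (by rw [hc, hc, hab]))
    · intro H a b hab
      obtain ⟨a, rfl⟩ := hF.2 a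
      obtain ⟨b, rfl⟩ := hF.2 b
      rw [hc, hc] at hab
      rw [H (hG.1 hab)]
  exact and_congr h1 h2

/-- The target enlarged along an open immersion. -/
theorem good_comp_iff (i : Y ⟶ Y') [IsOpenImmersion i] {F G : X.Modules} (h : F ⟶ G) (x : X) :
    Good (f ≫ i) h x ↔ Good f h x :=
  and_congr Iff.rfl (Ega3B.FlatRestrict.isFlatOverAt_comp_iff f i (cokernel h) x)

end K115.GoodPt
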