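import Groth.Agent.EGA43.K115.GoodPt
import Groth.Agent.EGA43.K120.FlatLimit
import Groth.Agent.Lim8.K116.ModLim2
import Groth.Agent.FormalA.PullbackQC
import Groth.Agent.Dcoh.Restrict

/-!
# Injectivity and flatness of the cokernel at a point of a limit come from a stage: the affine case

`E : J ⥤ Scheme` cofiltered, all the stages affine, `c` its limit, `f₀ : X₀ ⟶ E i` of finite presentation with `X₀`
affine, `h₀ : F₀ ⟶ G₀` a map of finitely presented quasi-coherent modules on `X₀`.

* `exists_stage_of_forall`: if `(f, h)` is good at all the points of the base change to the limit then it is good at all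
  the points of a stage;
* `exists_stage`: the same for one point.
-/

set_option autoImplicit false
set_option linter.style.haveILetI false
universe u

open CategoryTheory CategoryTheory.Limits AlgebraicGeometry

namespace K115.GoodStage

open Groth.Agent Groth.Agent.CycB.StalkExact Groth.Agent.Fdesc.PullbackStalk Groth.Agent.Ega43.LimBC K115.GoodPt
  K120.StalkInj

section Map

variable {X Y Z P : Scheme.{u}}

/-- Iterated pullbacks. -/
theorem good_comp_map_iff {a : P ⟶ X} {b : X ⟶ Y} {r : P ⟶ Y} (e : a ≫ b = r) (f : P ⟶ Z) {F G : Y.Modules}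
    (h : F ⟶ G) (z : P) : Good f ((Scheme.Modules.pullback a).map ((Scheme.Modules.pullback b).map h)) z ↔
      Good f ((Scheme.Modules.pullback r).map h) z := by
  subst e
  have w := (Scheme.Modules.pullbackComp a b).hom.naturality h
  constructor
  · intro H
    exact Good.congr ((Scheme.Modules.pullbackComp a b).app F) ((Scheme.Modules.pullbackComp a b).app G) w H
  · intro H
    refine Good.congr ((Scheme.Modules.pullbackComp a b).app F).symm ((Scheme.Modules.pullbackComp a b).app G).symm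
      ?_ H
    exact ((Scheme.Modules.pullbackComp a b).inv.naturality h)

/-- Restriction of a base change to an open subscheme of the source. -/
theorem exists_restrict {P X' X₀ S T V Q : Scheme.{u}} {w : P ⟶ X'} {q : P ⟶ T} {q' : X' ⟶ S} {t : T ⟶ S}
    (H : IsPullback w q q' t) (j : V ⟶ X') [IsOpenImmersion j] {a : Q ⟶ V} {b : Q ⟶ T}
    (HQ : IsPullback a b (j ≫ q') t) {p' : X' ⟶ X₀} {p : P ⟶ X₀} (e : w ≫ p' = p) {F₀ G₀ : X₀.Modules}
    (h₀ : F₀ ⟶ G₀) : ∃ m : Q ⟶ P, IsPullback m a w j ∧ ∀ z, Good b ((Scheme.Modules.pullback a).map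
      ((Scheme.Modules.pullback j).map ((Scheme.Modules.pullback p').map h₀))) z ↔
        Good q ((Scheme.Modules.pullback p).map h₀) (m z) := by
  let m : Q ⟶ P := H.lift (a ≫ j) b (by rw [Category.assoc, HQ.w])
  have hm1 : m ≫ w = a ≫ j := H.lift_fst _ _ _
  have hm2 : m ≫ q = b := H.lift_snd _ _ _
  have Hm : IsPullback m a w j := by
    refine IsPullback.of_right (h₁₂ := q) (h₂₂ := q') (v₁₃ := t) ?_ hm1 H.flip
    rw [hm2]
    exact HQ.flip
  have hmo : IsOpenImmersion m := MorphismProperty.of_isPullback Hm.flip inferInstance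
  refine ⟨m, Hm, fun z => ?_⟩
  rw [good_comp_map_iff rfl, good_comp_map_iff (r := m ≫ p) (by rw [← e, Category.assoc, reassoc_of% hm1]),
    ← good_pullback_iff m, hm2, good_comp_map_iff rfl]

/-- The kernel of the map on sections over an affine source is finitely generated when the cokernel is flat. -/
theorem fg_ker_appL {f : X ⟶ Y} [LocallyOfFinitePresentation f] {F G : X.Modules} (v : F ⟶ G)
    (hF : Coh.IsQCoh F) (hG : Coh.IsQCoh G) (hF' : CohB1.IsFP F) (hG' : CohB1.IsFP G)
    {U : X.Opens} {V : Y.Opens} (hU : IsAffineOpen U) (hV : IsAffineOpen V) (eV : U ≤ f ⁻¹ᵁ V)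
    (h : ∀ x ∈ U, FlatMod.IsFlatOverAt f (cokernel v) x) : (LinearMap.ker (appL v U)).FG := by
  have hC : Coh.IsQCoh (cokernel v) := PerfA.QCohSerre.isQCoh_cokernel v hF hG
  have hC' : CohB1.IsFP (cokernel v) := Smoothlim.FPMod.isFP_cokernel v hF' hG'
  let := (f.appLE V U eV).hom.toAlgebra
  let := K120.FlatDict.secModule f (cokernel v) eV
  have : IsScalarTower Γ(Y, V) Γ(X, U) Γ(cokernel v, U) := .of_algebraMap_smul fun _ _ => rfl
  have : Algebra.FinitePresentation Γ(Y, V) Γ(X, U) :=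
    LocallyOfFinitePresentation.finitePresentation_appLE f hV hU eV
  have h1 : Module.FinitePresentation Γ(X, U) Γ(F, U) := Desc.FPSections.finitePresentation_sections hU hF hF'
  have h2 : Module.FinitePresentation Γ(X, U) Γ(G, U) := Desc.FPSections.finitePresentation_sections hU hG hG'
  have h3 : Module.FinitePresentation Γ(X, U) Γ(cokernel v, U) :=
    Desc.FPSections.finitePresentation_sections hU hC hC'
  have h4 : Module.Flat Γ(Y, V) Γ(cokernel v, U) :=
    (K120.FlatDict.flat_sections_iff f (cokernel v) hC hU hV eV).mp h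
  have i1 : G.IsQuasicoherent := hG
  have i2 : (cokernel v).IsQuasicoherent := hC
  have h5 : Function.Surjective (appL (cokernel.π v) U) :=
    FormalB.QcSect.surjective_app_of_epi (cokernel.π v) hU
  have h6 : Function.Exact (appL v U) (appL (cokernel.π v) U) := by
    intro y
    constructor
    · intro hy
      exact FormalB.TrSys.exists_of_exact hF hG hC v (cokernel.π v) (cokernel.condition v)
        (ShortComplex.exact_cokernel v) hU y hy
    · rintro ⟨z, rfl⟩
      exact congr((Scheme.Modules.Hom.app $(cokernel.condition v) U) z)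
  exact K120.KerFlat.fg_ker_of_flat_coker (R := Γ(Y, V)) (appL v U) (appL (cokernel.π v) U) h5 h6

/-- If the generators of the kernel die on `P` then so do the elements of the kernel on the stalks. -/
theorem canAdd_eq_zero_of_gens [IsAffine X] {F G : X.Modules} (v : F ⟶ G) (hF : Coh.IsQCoh F) (hG : Coh.IsQCoh G)
    (s : Set Γ(F, ⊤)) (hs : Submodule.span Γ(X, ⊤) s = LinearMap.ker (appL v ⊤)) (p : P ⟶ X) (z : P)
    (h : ∀ n ∈ s, (Scheme.Modules.pullback p).map (Dcoh.Restrict.unitHom n) = 0)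
    (t : F.presheaf.stalk (p z)) (ht : stalkLin v (p z) t = 0) : canAdd p F z t = 0 := by
  have hU : IsAffineOpen (⊤ : X.Opens) := isAffineOpen_top X
  have hzU : p z ∈ (⊤ : X.Opens) := trivial
  -- generators
  have key : ∀ n ∈ s, canAdd p F z (F.presheaf.germ ⊤ (p z) hzU n) = 0 := by
    intro n hn
    have h1 := PerfB.FlatPull.stalkLin_pullback_canAdd p (Dcoh.Restrict.unitHom n) z
      ((Coh.structureModule X).presheaf.germ ⊤ (p z) hzU (Dcoh.Restrict.one ⊤))
    rw [h n hn] at h1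
    have h2 : stalkLin (Dcoh.Restrict.unitHom n) (p.base z)
        ((Coh.structureModule X).presheaf.germ ⊤ (p z) hzU (Dcoh.Restrict.one ⊤)) =
        F.presheaf.germ ⊤ (p z) hzU n := by
      refine (stalkLin_germ _ _ _ _).trans ?_
      rw [Dcoh.Restrict.unitHom_app_one]
    rw [h2] at h1
    rw [← h1]
    have h3 : ∀ y, stalkLin (0 : (Scheme.Modules.pullback p).obj (Coh.structureModule X) ⟶
        (Scheme.Modules.pullback p).obj F) z y = 0 := by
      intro y
      have h4 : (stalkFun z).map (0 : (Scheme.Modules.pullback p).obj (Coh.structureModule X) ⟶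
        (Scheme.Modules.pullback p).obj F) = 0 := (stalkFun z).map_zero _ _
      exact ConcreteCategory.congr_hom h4 y
    exact h3 _
  obtain ⟨a, m, ha, hm⟩ := Fdesc.QCohStalk.exists_germ_eq_smul F hU hF (p z) hzU t
  have hau : IsUnit (X.presheaf.germ ⊤ (p z) hzU a) := (X.mem_basicOpen a (p z) hzU).mp ha
  have h1 : G.presheaf.germ ⊤ (p z) hzU (v.app ⊤ m) = 0 := by
    rw [← stalkLin_germ, hm, map_smul, ht, smul_zero]
  obtain ⟨b, hb, hbm⟩ := Fdesc.QCohStalk.exists_smul_eq_zero_of_germ_eq_zero G hU hG (p z) hzU _ h1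
  have hbu : IsUnit (X.presheaf.germ ⊤ (p z) hzU b) := (X.mem_basicOpen b (p z) hzU).mp hb
  have h2 : b • m ∈ LinearMap.ker (appL v ⊤) := by
    rw [LinearMap.mem_ker, map_smul, appL_apply, hbm]
  have h3 : canAdd p F z (F.presheaf.germ ⊤ (p z) hzU (b • m)) = 0 := by
    rw [← hs] at h2
    refine Submodule.span_induction (p := fun k _ => canAdd p F z (F.presheaf.germ ⊤ (p z) hzU k) = 0) ?_ ?_ ?_ ?_ h2
    · exact key
    · rw [map_zero, map_zero]
    · intro k l _ _ hk hl
      rw [map_add, map_add, hk, hl, add_zero]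
    · intro c k _ hk
      rw [Fdesc.QCohStalk.germ_smul', canAdd_smul, hk, smul_zero]
  rw [Fdesc.QCohStalk.germ_smul', canAdd_smul, hm, canAdd_smul] at h3
  exact ((hau.map (p.stalkMap z).hom).smul_eq_zero).mp (((hbu.map (p.stalkMap z).hom).smul_eq_zero).mp h3)

end Map

section Stage

variable {J : Type u} [SmallCategory J] [IsCofiltered J] {E : J ⥤ Scheme.{u}} {c : Cone E} (hc : IsLimit c)
  [∀ j, IsAffine (E.obj j)] {i : J} {X₀ : Scheme.{u}}

include hc in
/-- A homomorphism at a stage which becomes zero on the limit becomes zero at a later stage. -/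
theorem exists_map_eq_zero {F G : (E.obj i).Modules} (hF : Coh.IsQCoh F) (hF' : CohB1.IsFT F) (hG : Coh.IsQCoh G)
    (φ : F ⟶ G) (h : (Scheme.Modules.pullback (c.π.app i)).map φ = 0) :
    ∃ (k : J) (b : k ⟶ i), (Scheme.Modules.pullback (E.map b)).map φ = 0 := by
  obtain ⟨k, b, hb⟩ := (K116.ModLim.map_eq_iff hc hF hF' hG φ 0).mp (by
    rw [h, Functor.map_zero])
  exact ⟨k, b, by rw [hb, Functor.map_zero]⟩

omit [IsCofiltered J] [∀ j, IsAffine (E.obj j)] in
theorem map_eq_zero_of_comp {P Q X : Scheme.{u}} {k : Q ⟶ P} {a : P ⟶ X} {a' : Q ⟶ X} (e : k ≫ a = a')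
    {F G : X.Modules} {φ : F ⟶ G} (h : (Scheme.Modules.pullback a).map φ = 0) :
    (Scheme.Modules.pullback a').map φ = 0 := by
  rw [← K116.ModLim.pull_map k a a' e φ, h, ← (Scheme.Modules.pullback a).map_zero F G, K116.ModLim.pull_map,
    Functor.map_zero]

include hc in
theorem exists_map_eq_zero_finset {F G : (E.obj i).Modules} (hF : Coh.IsQCoh F) (hF' : CohB1.IsFT F)
    (hG : Coh.IsQCoh G) (s : Finset (F ⟶ G)) (h : ∀ φ ∈ s, (Scheme.Modules.pullback (c.π.app i)).map φ = 0) :
    ∃ (k : J) (b : k ⟶ i), ∀ φ ∈ s, (Scheme.Modules.pullback (E.map b)).map φ = 0 := by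
  classical
  induction s using Finset.induction_on with
  | empty => exact ⟨i, 𝟙 i, by simp⟩
  | insert φ s _ ih =>
    obtain ⟨k, b, hb⟩ := ih fun φ hφ => h φ (Finset.mem_insert_of_mem hφ)
    obtain ⟨l, d, hd⟩ := exists_map_eq_zero hc hF hF' hG φ (h φ (Finset.mem_insert_self _ _))
    obtain ⟨m, mk, ml, hm⟩ := IsCofiltered.cospan b d
    refine ⟨m, mk ≫ b, fun ψ hψ => ?_⟩
    rcases Finset.mem_insert.mp hψ with rfl | hψ
    · exact map_eq_zero_of_comp (k := E.map ml) (by rw [← E.map_comp, hm]) hd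
    · exact map_eq_zero_of_comp (k := E.map mk) (by rw [← E.map_comp]) (hb ψ hψ)

variable (f₀ : X₀ ⟶ E.obj i) [LocallyOfFinitePresentation f₀] [IsAffine X₀]
  {F₀ G₀ : X₀.Modules} (hF : Coh.IsQCoh F₀) (hG : Coh.IsQCoh G₀) (hF' : CohB1.IsFP F₀) (hG' : CohB1.IsFP G₀)
  (h₀ : F₀ ⟶ G₀)

include hc hF hG hF' hG' in
/-- The flatness of the cokernel comes from a stage. -/
theorem exists_flat_stage (h : ∀ z, FlatMod.IsFlatOverAt (pullback.snd f₀ (c.π.app i))
      (cokernel ((Scheme.Modules.pullback (pullback.fst f₀ (c.π.app i))).map h₀)) z) :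
    ∃ j : Over i, FlatMod.IsFlatOver (pullback.snd f₀ (E.map j.hom))
      ((Scheme.Modules.pullback (pullback.fst f₀ (E.map j.hom))).obj (cokernel h₀)) := by
  have hC : Coh.IsQCoh (cokernel h₀) := PerfA.QCohSerre.isQCoh_cokernel h₀ hF hG
  have hC' : CohB1.IsFP (cokernel h₀) := Smoothlim.FPMod.isFP_cokernel h₀ hF' hG'
  have h1 : FlatMod.IsFlatOver (pullback.snd f₀ (c.π.app i))
      ((Scheme.Modules.pullback (pullback.fst f₀ (c.π.app i))).obj (cokernel h₀)) := fun z =>
    Models2.FlatIso.isFlatOverAt_of_iso _ (cokerPull (pullback.fst f₀ (c.π.app i)) h₀).symm z (h z)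
  rw [K120.FlatPt.isFlatOver_iff_flatPt (IsPullback.of_hasPullback f₀ (c.π.app i))] at h1
  obtain ⟨j, hj⟩ := K120.FlatLimit.exists_stage (f₀ := f₀) hc (𝟙 (E.obj i)) hC hC' fun x s =>
    K120.FlatPt.flatPt_comp (r := pullback.snd (𝟙 (E.obj i)) (c.π.app i)) (t := c.π.app i)
      (by rw [← pullback.condition, Category.comp_id]) (h1 x _)
  refine ⟨j, ?_⟩
  rw [K120.FlatPt.isFlatOver_iff_flatPt (IsPullback.of_hasPullback f₀ (E.map j.hom))]
  intro x s
  exact K120.FlatPt.flatPt_comp (r := pullback.lift (E.map j.hom) (𝟙 _) (by simp)) (pullback.lift_fst _ _ _)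
    (hj x _)

include hc hF hG hF' hG' in
/-- If all the points of the limit are good then all the points of a stage are good. -/
theorem exists_stage_of_forall (h : ∀ z, Good (pullback.snd f₀ (c.π.app i))
      ((Scheme.Modules.pullback (pullback.fst f₀ (c.π.app i))).map h₀) z) :
    ∃ j : Over i, ∀ z, Good (pullback.snd f₀ (E.map j.hom))
      ((Scheme.Modules.pullback (pullback.fst f₀ (E.map j.hom))).map h₀) z := by
  classical
  obtain ⟨j, hj⟩ := exists_flat_stage hc f₀ hF hG hF' hG' h₀ fun z => (h z).2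
  -- the stage `j`
  let D := bcDiagram E i f₀
  let p₁ : D.obj j ⟶ X₀ := pullback.fst f₀ (E.map j.hom)
  let q₁ : D.obj j ⟶ E.obj j.left := pullback.snd f₀ (E.map j.hom)
  have hD : ∀ k, IsAffine (D.obj k) := fun k => inferInstanceAs (IsAffine (pullback f₀ (E.map k.hom)))
  let F₁ := (Scheme.Modules.pullback p₁).obj F₀
  let G₁ := (Scheme.Modules.pullback p₁).obj G₀
  let v₁ : F₁ ⟶ G₁ := (Scheme.Modules.pullback p₁).map h₀
  have hF₁ : Coh.IsQCoh F₁ := VarietyB.PullSec.isQCoh_pullback _ _ hF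
  have hG₁ : Coh.IsQCoh G₁ := VarietyB.PullSec.isQCoh_pullback _ _ hG
  have hF₁' : CohB1.IsFP F₁ := FormalA.PullbackQC.isFP_pullback _ _ hF'
  have hG₁' : CohB1.IsFP G₁ := FormalA.PullbackQC.isFP_pullback _ _ hG'
  have hfl₁ : ∀ z, FlatMod.IsFlatOverAt q₁ (cokernel v₁) z := fun z =>
    Models2.FlatIso.isFlatOverAt_of_iso _ (cokerPull p₁ h₀) z (hj z)
  have hq₁ : LocallyOfFinitePresentation q₁ := MorphismProperty.pullback_snd _ _ inferInstance
  obtain ⟨s, hs⟩ := fg_ker_appL (f := q₁) v₁ hF₁ hG₁ hF₁' hG₁' (isAffineOpen_top _) (isAffineOpen_top _)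
    (le_refl _) fun z _ => hfl₁ z
  -- the limit
  let w : (bcCone E c i f₀).pt ⟶ D.obj j := (bcCone E c i f₀).π.app j
  have hw : w ≫ p₁ = pullback.fst f₀ (c.π.app i) := bcCone_π_fst E c i f₀ j
  have hmono : Mono ((Scheme.Modules.pullback w).map v₁) := by
    refine PerfB.FlatPull.mono_of_stalkLin_injective _ fun z => ?_
    exact ((good_comp_map_iff hw (pullback.snd f₀ (c.π.app i)) h₀ z).mpr (h z)).1
  have hzero : ∀ n ∈ s, (Scheme.Modules.pullback w).map (Dcoh.Restrict.unitHom n) = 0 := by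
    intro n hn
    rw [← cancel_mono ((Scheme.Modules.pullback w).map v₁), zero_comp, ← Functor.map_comp,
      Dcoh.Restrict.unitHom_comp]
    have h1 : n ∈ LinearMap.ker (appL v₁ ⊤) := by
      rw [← hs]
      exact Submodule.subset_span hn
    have h2 : v₁.app ⊤ n = 0 := h1
    rw [h2]
    have h3 : Dcoh.Restrict.unitHom (0 : Γ(G₁, ⊤)) = 0 := (Dcoh.Restrict.unitEquiv G₁).symm.map_zero
    rw [h3, Functor.map_zero]
  have hFT : CohB1.IsFT (Coh.structureModule (D.obj j)) := Models2.FPCoh.isFT_of_isFP Smoothlim.FPMod.isFP_unit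
  obtain ⟨k, b, hb⟩ := exists_map_eq_zero_finset (E := D) (isLimitBcCone E c i f₀ hc)
    (PerfA.QCohSerre.isQCoh_unit _) hFT hF₁ (s.image fun n => Dcoh.Restrict.unitHom n) (by
      intro φ hφ
      obtain ⟨n, hn, rfl⟩ := Finset.mem_image.mp hφ
      exact hzero n hn)
  refine ⟨k, fun z => ?_⟩
  have H : IsPullback (D.map b) (pullback.snd f₀ (E.map k.hom)) q₁ (E.map b.left) := isPullback_map E i f₀ b
  refine (good_comp_map_iff (bcDiagram_map_fst E i f₀ b) (pullback.snd f₀ (E.map k.hom)) h₀ z).mp ?_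
  constructor
  · refine injective_of_kernel H v₁ z (hfl₁ _) fun t ht => ?_
    exact canAdd_eq_zero_of_gens v₁ hF₁ hG₁ s hs (D.map b) z (fun n hn =>
      hb _ (Finset.mem_image_of_mem _ hn)) t ht
  · exact Models2.FlatIso.isFlatOverAt_of_iso _ (cokerPull (D.map b) v₁) z
      (Fdesc.FlatBC.isFlatOverAt_pullback H _ z (hfl₁ _))

include hc hF hG hF' hG' in
/-- **A good point of the limit is good at a stage.** -/
theorem exists_stage (x : (bcCone E c i f₀).pt) (h : Good (pullback.snd f₀ (c.π.app i))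
      ((Scheme.Modules.pullback (pullback.fst f₀ (c.π.app i))).map h₀) x) :
    ∃ j : Over i, Good (pullback.snd f₀ (E.map j.hom))
      ((Scheme.Modules.pullback (pullback.fst f₀ (E.map j.hom))).map h₀) ((bcCone E c i f₀).π.app j x) := by
  let D := bcDiagram E i f₀
  have hD : ∀ k, IsAffine (D.obj k) := fun k => inferInstanceAs (IsAffine (pullback f₀ (E.map k.hom)))
  -- the good locus on the limit
  let P := (bcCone E c i f₀).pt
  let p : P ⟶ X₀ := pullback.fst f₀ (c.π.app i)
  let q : P ⟶ c.pt := pullback.snd f₀ (c.π.app i)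
  have hq : LocallyOfFinitePresentation q := MorphismProperty.pullback_snd _ _ inferInstance
  have hO := isOpen_injective_and_flat ((Scheme.Modules.pullback p).map h₀) q
    (VarietyB.PullSec.isQCoh_pullback _ _ hF) (VarietyB.PullSec.isQCoh_pullback _ _ hG)
    (FormalA.PullbackQC.isFP_pullback _ _ hF') (FormalA.PullbackQC.isFP_pullback _ _ hG')
  let O : P.Opens := ⟨_, hO⟩
  obtain ⟨B, hB, hxB, hBO⟩ := exists_isAffineOpen_mem_and_subset (x := x) (U := O) h
  obtain ⟨j, V, hV, hVB⟩ := exists_isAffineOpen_preimage_eq D (bcCone E c i f₀) (isLimitBcCone E c i f₀ hc) B hB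
  have hV' : IsAffine (V : Scheme.{u}) := hV
  let p₁ : D.obj j ⟶ X₀ := pullback.fst f₀ (E.map j.hom)
  let q₁ : D.obj j ⟶ E.obj j.left := pullback.snd f₀ (E.map j.hom)
  have hq₁ : LocallyOfFinitePresentation q₁ := MorphismProperty.pullback_snd _ _ inferInstance
  have hF₁ := VarietyB.PullSec.isQCoh_pullback V.ι _ (VarietyB.PullSec.isQCoh_pullback p₁ _ hF)
  have hG₁ := VarietyB.PullSec.isQCoh_pullback V.ι _ (VarietyB.PullSec.isQCoh_pullback p₁ _ hG)
  have hF₁' := FormalA.PullbackQC.isFP_pullback V.ι _ (FormalA.PullbackQC.isFP_pullback p₁ _ hF')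
  have hG₁' := FormalA.PullbackQC.isFP_pullback V.ι _ (FormalA.PullbackQC.isFP_pullback p₁ _ hG')
  obtain ⟨m, Hm, hm⟩ := exists_restrict (isPullback_π E c i f₀ j) V.ι
    (IsPullback.of_hasPullback (V.ι ≫ q₁) (c.π.app j.left)) (p' := p₁) (p := p) (bcCone_π_fst E c i f₀ j) h₀
  obtain ⟨k, hk⟩ := exists_stage_of_forall hc (V.ι ≫ q₁) hF₁ hG₁ hF₁' hG₁' _ fun z => by
    rw [hm z]
    have h1 : m z ∈ B := by
      rw [← hVB]
      change (bcCone E c i f₀).π.app j (m z) ∈ V
      rw [← Scheme.Hom.comp_apply, Hm.w, Scheme.Hom.comp_apply]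
      exact (pullback.fst (V.ι ≫ q₁) (c.π.app j.left) z).2
    exact hBO h1
  let l : Over i := Over.mk (k.hom ≫ j.hom)
  let b : l ⟶ j := Over.homMk k.hom
  obtain ⟨m', Hm', hm'⟩ := exists_restrict (isPullback_map E i f₀ b) V.ι
    (IsPullback.of_hasPullback (V.ι ≫ q₁) (E.map k.hom)) (p' := p₁) (p := pullback.fst f₀ (E.map l.hom))
    (bcDiagram_map_fst E i f₀ b) h₀
  refine ⟨l, ?_⟩
  have h2 : D.map b ((bcCone E c i f₀).π.app l x) ∈ V := by
    rw [← Scheme.Hom.comp_apply, (bcCone E c i f₀).w b]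
    have h3 : x ∈ (bcCone E c i f₀).π.app j ⁻¹ᵁ V := by
      rw [hVB]
      exact hxB
    exact h3
  obtain ⟨z, hz, -⟩ := Scheme.exists_preimage_of_isPullback Hm' ((bcCone E c i f₀).π.app l x) ⟨_, h2⟩ rfl
  rw [← hz]
  exact (hm' z).mp (hk z)

end Stage

end K115.GoodStage
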